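import Cfsg.Agent.H868.Dl.HeCls
import Cfsg.Agent.H454.Dl.Crit
import Cfsg.Agent.H680.Dl.Hall
import Cfsg.Agent.H759.Dl.Small
import Cfsg.Agent.H498.SporOut

/-!
# S4769, S4767: the row of the Held group (helper868, task DL-SPOR-3)

`p = 2` : 21 classes, an element of order 8 with centralizer of order at most 16, `|Out| ≤ 2`, so three characters of
even degree; `|S|₂ = 2 ^ 10`, so the derived length is at most 3.
-/

set_option autoImplicit false

open Cfsg

namespace Cfsg.Agent.H868.Dl

open Cfsg.Agent.H246.Dl Cfsg.Agent.H680.Dl Cfsg.Agent.H759.Dl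

universe u

/-- `|Out| ≤ 2` in the form of `H454.Dl.Crit` -/
theorem out_le_two {S : Type u} [Group S] (h : IsSporadicGroup S) : Nat.card (H454.DlCrit.OutQ S) ≤ 2 :=
  H498.SporOut.index_le_two h

theorem he_spor {S : Type u} [Group S] (h : Spor.IsoHe S) : IsSporadicGroup S := by
  unfold IsSporadicGroup
  tauto

/-- three characters of even degree -/
theorem many_he : Many 2 Cfsg.Spor.He 3 := by
  have hfin := HeCls.finHe
  have : Fact (Nat.Prime 2) := ⟨Nat.prime_two⟩
  refine H454.DlCrit.Many.of_count_le (o := 2) (c := 21) (x := SporadicB.HePerm.wd HeCls.W8) ⟨3, ?_⟩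
    (out_le_two (he_spor ⟨MulEquiv.refl _⟩)) HeCls.classes ?_
  · rw [HeCls.order_eight]
    norm_num
  · have h1 := HeCls.card_eight
    omega

/-- a prime divisor of `p ^ a * m` -/
theorem eq_or_dvd {p q a m : ℕ} (hp : p.Prime) (hq : q.Prime) (h : p ∣ q ^ a * m) : p = q ∨ p ∣ m := by
  rcases hp.dvd_mul.1 h with h | h
  · exact Or.inl ((Nat.prime_dvd_prime_iff_eq hp hq).1 (hp.dvd_of_dvd_pow h))
  · exact Or.inr h

/-- a simple group with a non-central element is not commutative -/
theorem not_comm_of_card {S : Type u} [Group S] [Finite S] [IsSimpleGroup S] (h : ¬ (Nat.card S).Prime) :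
    ¬ IsMulCommutative S := by
  intro hc
  let _ : CommGroup S := { (inferInstance : Group S) with mul_comm := hc.is_comm.comm }
  exact h IsSimpleGroup.prime_card

/-- **The row of the Held group.** -/
theorem row_he (T : H596.OneFacts.FactTwo.{u}) (I : H671.H5.FactIM.{u}) : RowF.{u} (fun S => Spor.IsoHe S) := by
  intro S _ _ _ h p hp hd
  have hF : Fact p.Prime := ⟨hp⟩
  have hcard : Nat.card S = 4030387200 := by
    obtain ⟨e⟩ := h
    rw [Nat.card_congr e.toEquiv, KFacts.He.Classes.card_he]
  have hc : ¬ IsMulCommutative S := not_comm_of_card (by rw [hcard]; norm_num)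
  by_cases h2 : p = 2
  · subst h2
    obtain ⟨e⟩ := h
    exact Row.of_le (dlLe_three (a := 10) le_rfl (by rw [hcard]; norm_num)) (many_he.of_equiv e) le_rfl
  · refine row_of_dl_two T I hc hp hd (dlLe_two (a := 3) (by norm_num) ?_)
    rw [hcard] at hd ⊢
    have h1 : (4030387200 : ℕ) = 2 ^ 10 * (3 ^ 3 * (5 ^ 2 * (7 ^ 3 * (17 ^ 1 * 1)))) := by norm_num
    rw [h1] at hd
    rcases eq_or_dvd hp Nat.prime_two hd with rfl | hd
    · exact absurd rfl h2
    rcases eq_or_dvd hp Nat.prime_three hd with rfl | hd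
    · norm_num
    rcases eq_or_dvd hp (by norm_num) hd with rfl | hd
    · norm_num
    rcases eq_or_dvd hp (by norm_num) hd with rfl | hd
    · norm_num
    rcases eq_or_dvd hp (by norm_num) hd with rfl | hd
    · norm_num
    · exact absurd (Nat.dvd_one.1 hd) hp.one_lt.ne'

end Cfsg.Agent.H868.Dl
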