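import Cfsg.Agent.H868.Dl.LyFive
import Cfsg.Agent.H868.Dl.He
import Cfsg.Agent.H314.LyOrb.Deg
import Cfsg.Agent.H314.LyOrb.Ord25
import Cfsg.Agent.H314.LyOrb.IMSevenC
import Cfsg.Agent.H51.Rad3.Ly
import Cfsg.Agent.H70.Dl.Tools
import Cfsg.Agent.TypeM.OutLyFin

/-!
# S4769, S4767: the row of the Lyons group (helper868, task DL-SPOR-3)

* `p = 2` : three irreducible characters of the rank 5 permutation representation, of degrees 45694, 1534500, 3028266;
* `p = 3` : an abelian normal subgroup `3 ^ 5` of a Sylow subgroup, with an abelian quotient;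
* `p = 5` : an element of order 25 with centralizer of order at most 25, and 28 element orders.
-/

set_option autoImplicit false

open Cfsg

namespace Cfsg.Agent.H868.Dl

open Cfsg.Agent.H246.Dl Cfsg.Agent.H680.Dl Cfsg.Agent.H759.Dl Cfsg.Agent.H70.Dl Subgroup

universe u

theorem finLy : Finite Spor.Ly := Cfsg.Agent.Ly.Setup.finite_ly

theorem many_ly_two : Many 2 Spor.Ly 3 := by
  obtain ⟨χ, -, hd⟩ := H314.LyOrb.exists_deg_ly
  refine Many.of_degrees (fun i : Fin 3 => χ (![1, 2, 3] i)) ?_ ?_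
  · intro i
    rw [hd]
    fin_cases i <;> simp [H314.LyOrb.deg]
  · intro i j hij
    simp only [hd] at hij
    fin_cases i <;> fin_cases j <;> simp [H314.LyOrb.deg] at hij ⊢

/-! ### `p = 3` -/

theorem dl_ly_three : DlLe 3 2 Spor.Ly := by
  have hfin := finLy
  have : Fact (Nat.Prime 3) := ⟨Nat.prime_three⟩
  have hP : IsPGroup 3 ↥(H51.Rad3.Ly.U ⊔ H51.Rad3.Ly.E) := H51.Rad3.Ly.isPGroup_P
  have hi : ¬ 3 ∣ (H51.Rad3.Ly.U ⊔ H51.Rad3.Ly.E).index := H51.Rad3.Ly.index_P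
  refine DlLe.of_sylow (hP.toSylow hi) ?_
  have hEU := H51.Rad3.Ly.U_le
  refine chain_two (T := H51.Rad3.Ly.U ⊔ H51.Rad3.Ly.E) (A := H51.Rad3.Ly.E) ?_
    (commutator_eq_bot_of_comm H51.Rad3.Ly.E_props.2)
  rw [commutator_le]
  intro a ha b hb
  have hdec : ∀ x ∈ H51.Rad3.Ly.U ⊔ H51.Rad3.Ly.E, ∃ y ∈ H51.Rad3.Ly.U, ∃ z ∈ H51.Rad3.Ly.E, x = y * z := by
    intro x hx
    rw [← SetLike.mem_coe, coe_mul_of_left_le_normalizer_right _ _ hEU] at hx
    obtain ⟨y, hy, z, hz, rfl⟩ := Set.mem_mul.1 hx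
    exact ⟨y, hy, z, hz, rfl⟩
  obtain ⟨y, hy, z, hz, rfl⟩ := hdec a ha
  obtain ⟨y', hy', z', hz', rfl⟩ := hdec b hb
  have hyy := H51.Rad3.Ly.U_props.2 y hy y' hy'
  have hn : ∀ {c w : Spor.Ly}, c ∈ H51.Rad3.Ly.U → w ∈ H51.Rad3.Ly.E → c * w * c⁻¹ ∈ H51.Rad3.Ly.E := fun hc hw =>
    (mem_normalizer_iff.1 (hEU hc) _).1 hw
  have hy3 : y * y' * y⁻¹ = y' := by rw [hyy, mul_inv_cancel_right]
  have e : y * z * (y' * z') * (y * z)⁻¹ * (y' * z')⁻¹ = (y * z * y⁻¹) * ((y * y') * (z' * z⁻¹) * (y * y')⁻¹) * (y' * z'⁻¹ * y'⁻¹) := by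
    calc y * z * (y' * z') * (y * z)⁻¹ * (y' * z')⁻¹ =
        (y * z * y⁻¹) * ((y * y') * (z' * z⁻¹) * (y * y')⁻¹) * ((y * y' * y⁻¹) * z'⁻¹ * y'⁻¹) := by group
      _ = _ := by rw [hy3]
  rw [commutatorElement_def, e]
  exact mul_mem (mul_mem (hn hy hz) (hn (mul_mem hy hy') (mul_mem hz' (inv_mem hz)))) (hn hy' (inv_mem hz'))

/-! ### `p = 5` -/

theorem card_le_classes {G : Type*} [Group G] [Finite G] (T : Finset ℕ) (h : ∀ n ∈ T, ∃ g : G, orderOf g = n) :
    T.card ≤ Nat.card (ConjClasses G) := by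
  classical
  choose g hg using h
  have : Finite (ConjClasses G) := Quotient.finite _
  have hinj : Function.Injective fun n : T => ConjClasses.mk (g n.1 n.2) := by
    intro a b hab
    have h1 := ConjClasses.mk_eq_mk_iff_isConj.1 hab
    obtain ⟨c, hc⟩ := isConj_iff.1 h1
    have h2 : orderOf (g b.1 b.2) = orderOf (g a.1 a.2) := by
      rw [← hc]
      exact orderOf_injective (MulAut.conj c).toMonoidHom (MulAut.conj c).injective _
    rw [hg, hg] at h2
    exact Subtype.ext h2.symm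
  have h3 := Nat.card_le_card_of_injective _ hinj
  simpa using h3

theorem classes_ly : 28 ≤ Nat.card (ConjClasses Spor.Ly) := by
  have hfin := finLy
  have hcard : Nat.card Cfsg.Spor.Ly = 51765179004000000 := Cfsg.Agent.Ly.Setup.card_ly
  obtain ⟨L⟩ := Cfsg.Agent.TypeM.FactsLy.exists_mt_ly
  have hpr : ∀ q : ℕ, q.Prime → q ∣ 51765179004000000 → ∃ g : Spor.Ly, orderOf g = q := by
    intro q hq hd
    have : Fact q.Prime := ⟨hq⟩
    exact exists_prime_orderOf_dvd_card' q (by rw [hcard]; exact hd)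
  refine le_trans (by decide) (card_le_classes (G := Spor.Ly) (({1, 3, 5, 7, 9, 11, 15, 21, 2, 6, 10, 14, 18, 22, 30, 42,
    4, 8, 12, 20, 24, 28, 40} : Finset ℕ) ∪ {25, 31, 33, 37, 67}) ?_)
  intro n hn
  rcases Finset.mem_union.1 hn with hn | hn
  · exact H710.Spor.Ly.exists_orders L n hn
  · simp only [Finset.mem_insert, Finset.mem_singleton] at hn
    rcases hn with rfl | rfl | rfl | rfl | rfl
    · exact H314.LyOrb.Ord25.exists25
    · exact hpr 31 (by norm_num) (by norm_num)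
    · exact H314.LyOrb.IMSeven.exists33
    · exact hpr 37 (by norm_num) (by norm_num)
    · exact hpr 67 (by norm_num) (by norm_num)

theorem card25 {x : Spor.Ly} (hx : orderOf x = 25) : Nat.card (centralizer ({x} : Set Spor.Ly)) ≤ 25 := by
  have hfin := finLy
  have : Fact (Nat.Prime 5) := ⟨Nat.prime_five⟩
  obtain ⟨L⟩ := Cfsg.Agent.TypeM.FactsLy.exists_mt_ly
  obtain ⟨f, K, S, h⟩ := H582.Ly.exists_fv L
  have hA : IsPGroup 5 ↥(zpowers x) := IsPGroup.of_card (n := 2) (by rw [Nat.card_zpowers, hx]; norm_num)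
  obtain ⟨t', f', K', S', h', P, hP, -, hPf, -⟩ := h.exists_sylow Cfsg.Agent.Ly.Setup.card_ly hA
  exact LyFive.card_cent25 h' (mem_centralizer_singleton_iff.1 (hPf (hP (mem_zpowers x)))) hx

theorem many_ly_five : Many 5 Spor.Ly 3 := by
  have hfin := finLy
  have : Fact (Nat.Prime 5) := ⟨Nat.prime_five⟩
  obtain ⟨x, hx⟩ := H314.LyOrb.Ord25.exists25
  refine H454.DlCrit.Many.of_count_le (o := 1) (c := 28) (x := x) ⟨2, ?_⟩ ?_ classes_ly ?_
  · rw [hx]
    norm_num
  · refine H454.DlCrit.card_out_of_inner fun σ => ?_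
    obtain ⟨g, hg⟩ := TypeM.OutLyFin.inner_ly σ
    exact ⟨g, hg.symm⟩
  · have h1 := card25 hx
    omega

/-- **The row of the Lyons group.** -/
theorem row_ly (T : H596.OneFacts.FactTwo.{u}) (I : H671.H5.FactIM.{u}) : RowF.{u} (fun S => Spor.IsoLy S) := by
  intro S _ _ _ h p hp hd
  have hF : Fact p.Prime := ⟨hp⟩
  obtain ⟨e⟩ := h
  have hcard : Nat.card S = 51765179004000000 := by
    rw [Nat.card_congr e.toEquiv, Cfsg.Agent.Ly.Setup.card_ly]
  have hc : ¬ IsMulCommutative S := not_comm_of_card (by rw [hcard]; norm_num)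
  by_cases h2 : p = 2
  · subst h2
    exact Row.of_le (dlLe_three (a := 8) (by norm_num) (by rw [hcard]; norm_num)) (many_ly_two.of_equiv e) le_rfl
  by_cases h3 : p = 3
  · subst h3
    exact row_of_dl_two T I hc hp hd (dl_ly_three.of_equiv e)
  by_cases h5 : p = 5
  · subst h5
    exact Row.of_le (dlLe_three (a := 6) (by norm_num) (by rw [hcard]; norm_num)) (many_ly_five.of_equiv e) le_rfl
  · refine row_of_dl_two T I hc hp hd (dlLe_two (a := 1) (by norm_num) ?_)
    rw [hcard] at hd ⊢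
    have h1 : (51765179004000000 : ℕ) = 2 ^ 8 * (3 ^ 7 * (5 ^ 6 * (7 ^ 1 * (11 ^ 1 * (31 ^ 1 * (37 ^ 1 * (67 ^ 1 * 1))))))) := by
      norm_num
    rw [h1] at hd
    rcases eq_or_dvd hp Nat.prime_two hd with rfl | hd
    · exact absurd rfl h2
    rcases eq_or_dvd hp Nat.prime_three hd with rfl | hd
    · exact absurd rfl h3
    rcases eq_or_dvd hp (by norm_num) hd with rfl | hd
    · exact absurd rfl h5
    rcases eq_or_dvd hp (by norm_num) hd with rfl | hd
    · norm_num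
    rcases eq_or_dvd hp (by norm_num) hd with rfl | hd
    · norm_num
    rcases eq_or_dvd hp (by norm_num) hd with rfl | hd
    · norm_num
    rcases eq_or_dvd hp (by norm_num) hd with rfl | hd
    · norm_num
    rcases eq_or_dvd hp (by norm_num) hd with rfl | hd
    · norm_num
    · exact absurd (Nat.dvd_one.1 hd) hp.one_lt.ne'

end Cfsg.Agent.H868.Dl
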