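import Cfsg.Agent.H868.Dl.ONCls
import Cfsg.Agent.H868.Dl.He

/-!
# S4769, S4767: the row of the O'Nan group (helper868, task DL-SPOR-3)

`p = 2` : 21 classes, an element of order 16 with centralizer of order at most 16, `|Out| ≤ 2`, so three characters of
even degree; `|S|₂ = 2 ^ 9`, so the derived length is at most 3.
-/

set_option autoImplicit false

open Cfsg

namespace Cfsg.Agent.H868.Dl

open Cfsg.Agent.H246.Dl Cfsg.Agent.H680.Dl Cfsg.Agent.H759.Dl

universe u

theorem on_spor {S : Type u} [Group S] (h : Spor.IsoON S) : IsSporadicGroup S := by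
  unfold IsSporadicGroup
  tauto

/-- three characters of even degree -/
theorem many_on : Many 2 Spor.ON 3 := by
  have hfin := H620.ONStruct.finite_ON
  have : Fact (Nat.Prime 2) := ⟨Nat.prime_two⟩
  refine H454.DlCrit.Many.of_count_le (o := 2) (c := 21) (x := UGT.C.BalONInv.E 384)
    ⟨4, ?_⟩ (out_le_two (on_spor ⟨MulEquiv.refl _⟩)) H620.ONVan.card_classes ?_
  · rw [H620.ONSixteen.orderOf_x16]
    norm_num
  · have h1 := ONCls.card16
    omega

/-- **The row of the O'Nan group.** -/
theorem row_on (T : H596.OneFacts.FactTwo.{u}) (I : H671.H5.FactIM.{u}) : RowF.{u} (fun S => Spor.IsoON S) := by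
  intro S _ _ _ h p hp hd
  have hF : Fact p.Prime := ⟨hp⟩
  obtain ⟨e⟩ := h
  have hcard : Nat.card S = 460815505920 := by
    rw [Nat.card_congr e.toEquiv, H620.ONStruct.card_ON]
  have hc : ¬ IsMulCommutative S := not_comm_of_card (by rw [hcard]; norm_num)
  by_cases h2 : p = 2
  · subst h2
    exact Row.of_le (dlLe_three (a := 9) (by norm_num) (by rw [hcard]; norm_num)) (many_on.of_equiv e) le_rfl
  · refine row_of_dl_two T I hc hp hd (dlLe_two (a := 4) (by norm_num) ?_)
    rw [hcard] at hd ⊢
    have h1 : (460815505920 : ℕ) = 2 ^ 9 * (3 ^ 4 * (5 ^ 1 * (7 ^ 3 * (11 ^ 1 * (19 ^ 1 * (31 ^ 1 * 1)))))) := by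
      norm_num
    rw [h1] at hd
    rcases eq_or_dvd hp Nat.prime_two hd with rfl | hd
    · exact absurd rfl h2
    rcases eq_or_dvd hp Nat.prime_three hd with rfl | hd
    · norm_num
    rcases eq_or_dvd hp (by norm_num) hd with rfl | hd
    · norm_num
    rcases eq_or_dvd hp (by norm_num) hd with rfl | hd
    · norm_num
    rcases eq_or_dvd hp (by norm_num) hd with rfl | hd
    · norm_num
    rcases eq_or_dvd hp (by norm_num) hd with rfl | hd
    · norm_num
    rcases eq_or_dvd hp (by norm_num) hd with rfl | hd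
    · norm_num
    · exact absurd (Nat.dvd_one.1 hd) hp.one_lt.ne'

end Cfsg.Agent.H868.Dl
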