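import Cfsg.Agent.H868.Dl.RuCls
import Cfsg.Agent.H868.Dl.He

/-!
# S4769, S4767: the row of the Rudvalis group (helper868, task DL-SPOR-3)

`p = 2` : 26 classes, an element of order 16 with centralizer of order at most 16, `|Out| ≤ 2`, so four characters of
even degree; `|S|₂ = 2 ^ 14`, so the derived length is at most 4.
-/

set_option autoImplicit false

open Cfsg

namespace Cfsg.Agent.H868.Dl

open Cfsg.Agent.H246.Dl Cfsg.Agent.H680.Dl Cfsg.Agent.H759.Dl

universe u

theorem ru_spor {S : Type u} [Group S] (h : Spor.IsoRu S) : IsSporadicGroup S := by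
  unfold IsSporadicGroup
  tauto

/-- four characters of even degree -/
theorem many_ru : Many 2 SporadicB.RuOrder.H 4 := by
  have hcard : Nat.card SporadicB.RuOrder.H = 145926144000 := SporadicB.RuOrder.card_H
  have hfin : Finite SporadicB.RuOrder.H := Nat.finite_of_card_ne_zero (by rw [hcard]; norm_num)
  have hiso : Spor.IsoRu SporadicB.RuOrder.H := ⟨RuLat.Main.equiv.symm⟩
  have : Fact (Nat.Prime 2) := ⟨Nat.prime_two⟩
  refine H454.DlCrit.Many.of_count_le (o := 2) (c := 26) (x := SporRec.TCUpperCert.wprod RuD.Letters.ml RuCls.w16)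
    ⟨4, ?_⟩ (out_le_two (ru_spor hiso)) H153.Zeros.RuCls.classes ?_
  · rw [RuCls.order16]
    norm_num
  · have h1 := RuCls.card16
    omega

/-- **The row of the Rudvalis group.** -/
theorem row_ru (T : H596.OneFacts.FactTwo.{u}) (I : H671.H5.FactIM.{u}) : RowF.{u} (fun S => Spor.IsoRu S) := by
  intro S _ _ _ h p hp hd
  have hF : Fact p.Prime := ⟨hp⟩
  obtain ⟨e⟩ := h
  have e' := e.trans RuLat.Main.equiv
  have hcard : Nat.card S = 145926144000 := by
    rw [Nat.card_congr e'.toEquiv, SporadicB.RuOrder.card_H]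
  have hc : ¬ IsMulCommutative S := not_comm_of_card (by rw [hcard]; norm_num)
  by_cases h2 : p = 2
  · subst h2
    exact Row.of_le (dlLe_four (a := 14) (by norm_num) (by rw [hcard]; norm_num)) (many_ru.of_equiv e') le_rfl
  · refine row_of_dl_two T I hc hp hd (dlLe_two (a := 3) (by norm_num) ?_)
    rw [hcard] at hd ⊢
    have h1 : (145926144000 : ℕ) = 2 ^ 14 * (3 ^ 3 * (5 ^ 3 * (7 ^ 1 * (13 ^ 1 * (29 ^ 1 * 1))))) := by norm_num
    rw [h1] at hd
    rcases eq_or_dvd hp Nat.prime_two hd with rfl | hd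
    · exact absurd rfl h2
    rcases eq_or_dvd hp Nat.prime_three hd with rfl | hd
    · norm_num
    rcases eq_or_dvd hp (by norm_num) hd with rfl | hd
    · norm_num
    rcases eq_or_dvd hp (by norm_num) hd with rfl | hd
    · norm_num
    rcases eq_or_dvd hp (by norm_num) hd with rfl | hd
    · norm_num
    rcases eq_or_dvd hp (by norm_num) hd with rfl | hd
    · norm_num
    · exact absurd (Nat.dvd_one.1 hd) hp.one_lt.ne'

end Cfsg.Agent.H868.Dl
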