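import Cfsg.Agent.H153.ZerosHe
import Cfsg.Agent.H19.Odd.HeCnt

/-!
# The Held group: 21 classes, and an element of order 8 with centralizer of order at most 16 (S4769, helper868)
-/

set_option autoImplicit false
set_option maxRecDepth 100000

namespace Cfsg.Agent.H868.Dl.HeCls

open Subgroup Cfsg Cfsg.Agent.H92.KTools Cfsg.Agent.H771.KTools
open Cfsg.Spor Cfsg.Spor.He Cfsg.Agent.SporadicB.HePerm Cfsg.Agent.FixBN.HeStab Cfsg.Agent.KFacts.He.Lv
open Cfsg.Agent.CpAutHe.Cnt Cfsg.Agent.CpAutHe.Bound Cfsg.Agent.H153.Zeros.He17 Cfsg.Agent.H19.Odd.HeCnt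

/-! ### The number of fixed points -/

/-- number of fixed points -/
noncomputable def fxn (g : Cfsg.Spor.He) : ℕ := Nat.card {i : Fin 2058 // phi g i = i}

theorem fxn_conj {x y : Cfsg.Spor.He} (h : IsConj x y) : fxn x = fxn y := by
  obtain ⟨c, rfl⟩ := isConj_iff.1 h
  have hc : ∀ i : Fin 2058, phi (c * x * c⁻¹) (phi c i) = phi c (phi x i) := by
    intro i
    rw [← Equiv.Perm.mul_apply, ← map_mul, ← Equiv.Perm.mul_apply, ← map_mul]
    congr 2
    group
  refine Nat.card_congr (Equiv.subtypeEquiv (phi c) fun i => ?_)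
  rw [hc]
  exact (phi c).injective.eq_iff.symm

theorem fxn_word (w : List Gen) : fxn (wd w) = cnt 2058 fun i => Nat.beq (act w i) i := by
  rw [← card_filter, fxn, Nat.card_eq_fintype_card, Fintype.card_subtype]
  refine Finset.card_bij (fun i _ => (i : ℕ)) ?_ ?_ ?_
  · intro i hi
    rw [Finset.mem_filter] at hi
    rw [Finset.mem_filter, Finset.mem_range]
    refine ⟨i.2, ?_⟩
    show Nat.beq (act w i) i = true
    rw [act_eq, hi.2]
    exact Nat.beq_refl _
  · intro i _ j _ h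
    exact Fin.ext h
  · intro n hn
    rw [Finset.mem_filter, Finset.mem_range] at hn
    have key : ∀ i : Fin 2058, Nat.beq (act w i) i = true → phi (wd w) i = i := fun i hi =>
      Fin.ext (by rw [← act_eq]; exact Nat.eq_of_beq_eq_true hi)
    exact ⟨⟨n, hn.1⟩, Finset.mem_filter.2 ⟨Finset.mem_univ _, key ⟨n, hn.1⟩ hn.2⟩, rfl⟩

/-! ### 21 classes -/

/-- the check of an item (word, order, primes, number of fixed points) -/
def chkI (d : List Gen × ℕ × List ℕ × ℕ) : Bool :=
  and (Nat.blt 0 d.2.1) (and (okw d.1 d.2.1 d.2.2.1) (Nat.beq (cnt 2058 fun i => Nat.beq (act d.1 i) i) d.2.2.2))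

theorem of_chkI {d : List Gen × ℕ × List ℕ × ℕ} (hps : ∀ p ∈ d.2.1.primeFactors, p ∈ d.2.2.1) (h : chkI d = true) :
    orderOf (wd d.1) = d.2.1 ∧ fxn (wd d.1) = d.2.2.2 := by
  unfold chkI at h
  rw [Bool.and_eq_true, Bool.and_eq_true, Nat.blt_eq] at h
  obtain ⟨h0, h1, h2⟩ := h
  refine ⟨hasOrd_word h0 _ hps h1, ?_⟩
  rw [fxn_word]
  exact Nat.eq_of_beq_eq_true h2

/-- a word of order 8 -/
def W8 : List Gen := [.c, .d, .f, .c, .d, .b, .a, .b]

/-- the data -/
def data : List (List Gen × ℕ × List ℕ × ℕ) := [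
  ([], 1, [], 2058),
  ([.f], 2, [2], 42),
  ([.a], 2, [2], 154),
  ([.b, .c], 3, [3], 0),
  ([.d, .g], 3, [3], 42),
  ([.c, .g, .f], 4, [2], 2),
  ([.e, .a, .b], 4, [2], 14),
  ([.d, .e, .f], 4, [2], 18),
  ([.e, .c, .d], 5, [5], 8),
  ([.a, .c, .b], 6, [2, 3], 0),
  ([.b, .g, .d], 6, [2, 3], 10),
  ([.f, .g, .d], 7, [7], 0),
  (W8, 8, [2], 2),
  ([.f, .d, .c], 10, [2, 5], 4),
  ([.c, .g, .b, .f], 12, [2, 3], 0),
  ([.b, .d, .c], 12, [2, 3], 2),
  ([.d, .f, .a, .g], 14, [2, 7], 0),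
  ([.b, .c, .g, .d, .c, .g, .d], 15, [3, 5], 2),
  ([.f, .c, .d, .b], 17, [17], 1),
  ([.b, .d, .c, .e], 21, [3, 7], 0),
  ([.g, .d, .f, .b, .a], 28, [2, 7], 0)]

theorem data_primes : ∀ d ∈ data, ∀ p ∈ d.2.1.primeFactors, p ∈ d.2.2.1 := by decide +kernel

theorem data_chk : data.all chkI = true := by decide +kernel

theorem data_nodup : (data.map fun d => (d.2.1, d.2.2.2)).Nodup := by decide +kernel

theorem finHe : Finite Cfsg.Spor.He := Nat.finite_of_card_ne_zero (by rw [KFacts.He.Classes.card_he]; norm_num)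

/-- **21 classes.** -/
theorem classes : 21 ≤ Nat.card (ConjClasses Cfsg.Spor.He) := by
  have hfin := finHe
  refine le_trans (by decide) (length_le (data.map fun d => wd d.1) ?_)
  rw [List.pairwise_map]
  have h1 := data_nodup
  rw [List.Nodup, List.pairwise_map] at h1
  have h2 := List.all_eq_true.1 data_chk
  refine List.Pairwise.imp_of_mem ?_ h1
  intro a b ha hb hab hc
  apply hab
  obtain ⟨e1, e2⟩ := of_chkI (data_primes a ha) (h2 a ha)
  obtain ⟨f1, f2⟩ := of_chkI (data_primes b hb) (h2 b hb)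
  have h3 := orderOf_eq_of_isConj hc
  have h4 := fxn_conj hc
  rw [e1, f1] at h3
  rw [e2, f2] at h4
  exact Prod.ext h3 h4

theorem order_eight : orderOf (wd W8) = 8 :=
  hasOrd_word (by norm_num) [2] (by decide +kernel) (by decide +kernel)

/-! ### The centralizer of the element of order 8 -/

/-- a point below `n` with `P` -/
def anyB (n : ℕ) (P : ℕ → Bool) : Bool := Nat.rec false (fun k ih => bif P k then true else ih) n

theorem anyB_of {P : ℕ → Bool} {k : ℕ} (h : P k = true) : ∀ {n : ℕ}, k < n → anyB n P = true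
  | 0, hk => absurd hk (Nat.not_lt_zero _)
  | n + 1, hk => by
    show (bif P n then true else anyB n P) = true
    rcases Nat.lt_succ_iff_lt_or_eq.1 hk with h1 | h1
    · rw [anyB_of h h1]
      cases P n <;> rfl
    · subst h1
      rw [h]
      rfl

/-- the tests for the images of the point 8 -/
def zt (y z : ℕ) : Bool :=
  bif Nat.beq (colr (act (pw W8 4) y) z) (colr (act (pw W8 4) 523) 8) then
    bif Nat.beq (colr (act (pw W8 6) y) z) (colr (act (pw W8 6) 523) 8) then
      bif Nat.beq (colr (act (pw W8 7) y) z) (colr (act (pw W8 7) 523) 8) then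
        Nat.beq (colr z (act (pw W8 4) z)) (colr 8 (act (pw W8 4) 8))
      else false
    else false
  else false

/-- the tests for the images of the point 523 -/
def yt (y : ℕ) : Bool := bif tst W8 [] [1, 3, 4] 523 y then anyB 2058 (zt y) else false

/-- the number of `i` in `[a, a + n)` with `P` -/
theorem cnt_add (a : ℕ) (P : ℕ → Bool) : ∀ b : ℕ, cnt (a + b) P = cnt a P + cnt b (fun i => P (Nat.add a i))
  | 0 => rfl
  | b + 1 => by
    show (bif P (a + b) then Nat.succ (cnt (a + b) P) else cnt (a + b) P) =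
      cnt a P + (bif P (a + b) then Nat.succ (cnt b fun i => P (Nat.add a i)) else cnt b fun i => P (Nat.add a i))
    rw [cnt_add a P b]
    cases P (a + b) <;> rfl

theorem yt_0 : cnt 258 yt = 6 := by decide +kernel
theorem yt_1 : cnt 257 (fun i => yt (Nat.add 258 i)) = 1 := by decide +kernel
theorem yt_2 : cnt 257 (fun i => yt (Nat.add 515 i)) = 4 := by decide +kernel
theorem yt_3 : cnt 257 (fun i => yt (Nat.add 772 i)) = 0 := by decide +kernel
theorem yt_4 : cnt 257 (fun i => yt (Nat.add 1029 i)) = 5 := by decide +kernel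
theorem yt_5 : cnt 257 (fun i => yt (Nat.add 1286 i)) = 0 := by decide +kernel
theorem yt_6 : cnt 257 (fun i => yt (Nat.add 1543 i)) = 0 := by decide +kernel
theorem yt_7 : cnt 258 (fun i => yt (Nat.add 1800 i)) = 0 := by decide +kernel

/-- the sum of two counts (all the numbers are variables: the kernel evaluates nothing) -/
theorem cnt_add_eq {a b c d n m : ℕ} {P : ℕ → Bool} (hn : a + b = n) (hm : c + d = m) (h1 : cnt a P = c)
    (h2 : cnt b (fun i => P (Nat.add a i)) = d) : cnt n P = m := by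
  subst hn
  subst hm
  rw [cnt_add, h1, h2]

theorem yt_cnt1 : cnt 515 yt = 7 := cnt_add_eq rfl rfl yt_0 yt_1
theorem yt_cnt2 : cnt 772 yt = 11 := cnt_add_eq rfl rfl yt_cnt1 yt_2
theorem yt_cnt3 : cnt 1029 yt = 11 := cnt_add_eq rfl rfl yt_cnt2 yt_3
theorem yt_cnt4 : cnt 1286 yt = 16 := cnt_add_eq rfl rfl yt_cnt3 yt_4
theorem yt_cnt5 : cnt 1543 yt = 16 := cnt_add_eq rfl rfl yt_cnt4 yt_5
theorem yt_cnt6 : cnt 1800 yt = 16 := cnt_add_eq rfl rfl yt_cnt5 yt_6
theorem yt_cnt : cnt 2058 yt = 16 := cnt_add_eq rfl rfl yt_cnt6 yt_7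

theorem colr_pw {c : Cfsg.Spor.He} (hc : c * wd W8 = wd W8 * c) (k : ℕ) (p q : Fin 2058) :
    colr (act (pw W8 k) (phi c p)) (phi c q) = colr (act (pw W8 k) p) q := by
  have h1 : c * wd (pw W8 k) = wd (pw W8 k) * c := by
    rw [wd_pw]
    exact ((show Commute c (wd W8) from hc).pow_right k).eq
  have h2 : act (pw W8 k) (phi c p) = (phi c (phi (wd (pw W8 k)) p) : ℕ) := by
    rw [act_eq, ← phi_mul_apply, ← h1, phi_mul_apply]
  rw [h2, colr_inv, ← act_eq]

theorem colr_pw' {c : Cfsg.Spor.He} (hc : c * wd W8 = wd W8 * c) (k : ℕ) (q : Fin 2058) :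
    colr (phi c q) (act (pw W8 k) (phi c q)) = colr q (act (pw W8 k) q) := by
  have h1 : c * wd (pw W8 k) = wd (pw W8 k) * c := by
    rw [wd_pw]
    exact ((show Commute c (wd W8) from hc).pow_right k).eq
  have h2 : act (pw W8 k) (phi c q) = (phi c (phi (wd (pw W8 k)) q) : ℕ) := by
    rw [act_eq, ← phi_mul_apply, ← h1, phi_mul_apply]
  rw [h2, colr_inv, ← act_eq]

theorem yt_spec {c : Cfsg.Spor.He} (hc : c * wd W8 = wd W8 * c) : yt (phi c 523) = true := by
  have h1 : tst W8 [] [1, 3, 4] 523 (phi c 523) = true :=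
    tst_spec (F := []) hc (fun f hf => absurd hf List.not_mem_nil) (fun _ h => h) [1, 3, 4] 523
  unfold yt
  rw [h1, cond_true]
  refine anyB_of (k := (phi c 8 : ℕ)) ?_ (phi c 8).2
  unfold zt
  have e4 := colr_pw hc 4 523 8
  have e6 := colr_pw hc 6 523 8
  have e7 := colr_pw hc 7 523 8
  have e8 := colr_pw' hc 4 8
  have v1 : ((523 : Fin 2058) : ℕ) = 523 := rfl
  have v2 : ((8 : Fin 2058) : ℕ) = 8 := rfl
  rw [v1, v2] at e4 e6 e7
  rw [v2] at e8
  rw [e4, e6, e7, e8, Nat.beq_refl, Nat.beq_refl, Nat.beq_refl, Nat.beq_refl]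
  rfl

def l8 : List Stp := [⟨0, [1152], [1], 1⟩, ⟨1, [523, 74], [2, 1], 1⟩, ⟨8, [110, 0, 194], [1, 4], 1⟩,
  ⟨32, [1152], [4, 1], 1⟩]

theorem run8 : run W8 l8 (nx W8 [] 523) = true := by decide +kernel

/-- **the centralizer of an element of order 8 has order at most 16** -/
theorem card_eight : Nat.card ↥(centralizer ({wd W8} : Set Cfsg.Spor.He)) ≤ 16 := by
  have hC : ∀ c ∈ centralizer ({wd W8} : Set Cfsg.Spor.He), c * wd W8 = wd W8 * c := fun c hc =>
    mem_centralizer_singleton_iff.1 hc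
  have h1 : Nat.card ↥(st (centralizer ({wd W8} : Set Cfsg.Spor.He)) 523) ≤ 1 := by
    refine le_of_run l8 (nx W8 [] 523) _ (fun c hc => hC c (mem_st.1 hc).1) (fun c hc => ?_) run8
    exact fx_nx (p := 523) (hC c (mem_st.1 hc).1) (fun _ hf => absurd hf List.not_mem_nil) (mem_st.1 hc).2
  have h2 := orb (centralizer ({wd W8} : Set Cfsg.Spor.He)) 523 ((Finset.range 2058).filter fun y => yt y = true)
    (fun c hc => by
      rw [Finset.mem_filter, Finset.mem_range]
      exact ⟨(phi c 523).2, yt_spec (hC c hc)⟩) h1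
  rwa [card_filter, yt_cnt, mul_one] at h2

end Cfsg.Agent.H868.Dl.HeCls
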