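import Cfsg.Agent.H582.Ly.FvFour

/-!
# The centralizer of an element of order 25 of the Lyons group (helper868, task DL-SPOR-3)

In the 5-local data `Fv t f K S` (`C(f) = K S`, `K` extraspecial of order `5 ^ 5` and exponent 5, `S = 2.A_6`):

* `Fv.pow_five_of_comm` : if `k s` commutes with an element of `K` outside `⟨f⟩`, then `(k s) ^ 5 = 1`;
* `Fv.card_cent25` : **`|C(x)| ≤ 25` for `x ∈ C(f)` of order 25**.
-/

set_option autoImplicit false
set_option linter.unusedSectionVars false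

namespace Cfsg.Agent.H868.Dl.LyFive

open Subgroup Cfsg Cfsg.Agent.H582.Ly Cfsg.Agent.SporRec.LyFiveExtra

variable {G : Type*} [Group G] [Finite G] {t f : G} {K S : Subgroup G}

section fv

variable (h : Fv t f K S)

include h

/-- The elements of `K` which commute with `y ∈ C_K(s) ∖ ⟨f⟩` are products `[a, s] z`, `a ∈ K`, `z ∈ ⟨f⟩`. -/
theorem exists_comm {s y k : G} (hs : s ∈ S) (ho : orderOf s = 5) (hy : y ∈ K) (hyf : y ∉ zpowers f)
    (hsy : s * y = y * s) (hk : k ∈ K) (hky : k * y = y * k) :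
    ∃ a ∈ K, ∃ z ∈ zpowers f, k = a * s * a⁻¹ * s⁻¹ * z := by
  set D : Subgroup G := K ⊓ centralizer ({s} : Set G) with hD
  set E : Subgroup G := K ⊓ centralizer ({y} : Set G) with hE
  have hDc : Nat.card D ≤ 25 := h.card_le_S hs ho
  have hEc : Nat.card E ≤ 625 := h.card_cent_le hy hyf
  have hDK : D ≤ K := inf_le_left
  have hFK := h.h.F_le
  -- commutators with `s` commute with `y`
  have hmem : ∀ a ∈ K, ∀ z ∈ zpowers f, a * s * a⁻¹ * s⁻¹ * z ∈ E := by
    intro a ha z hz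
    refine ⟨?_, ?_⟩
    · have h1 := h.h.S_norm hs (inv_mem ha)
      have h2 : a * s * a⁻¹ * s⁻¹ * z = a * (s * a⁻¹ * s⁻¹) * z := by group
      rw [h2]
      exact mul_mem (mul_mem ha h1) (hFK hz)
    · refine mem_centralizer_singleton_iff.2 ?_
      have hz1 : z * y = y * z := (h.h.comm_F hy hz).symm
      have h1 : a * s * a⁻¹ * s⁻¹ * y = y * (a * s * a⁻¹ * s⁻¹) := by
        obtain ⟨c, hc, hce⟩ : ∃ c ∈ zpowers f, a * y * a⁻¹ = c * y :=
          ⟨a * y * a⁻¹ * y⁻¹, h.h.comm_mem ha hy, by group⟩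
        have hcs : s * c = c * s := h.h.S_comm_F hs hc
        have hya : a⁻¹ * y = a⁻¹ * (c⁻¹ * (a * y * a⁻¹)) := by rw [hce]; group
        have hca : a⁻¹ * c⁻¹ = c⁻¹ * a⁻¹ := h.h.comm_F (inv_mem ha) (inv_mem hc)
        have hy2 : a⁻¹ * y = c⁻¹ * y * a⁻¹ := by
          rw [hya, ← mul_assoc, hca]
          group
        have hys : s⁻¹ * y = y * s⁻¹ := by
          rw [inv_mul_eq_iff_eq_mul, ← mul_assoc, hsy, mul_inv_cancel_right]
        have hay : a * (c⁻¹ * y) = y * a := by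
          have e1 : a * c⁻¹ = c⁻¹ * a := h.h.comm_F ha (inv_mem hc)
          have e2 : a * y = c * y * a := by rw [← hce]; group
          rw [← mul_assoc, e1, mul_assoc, e2]
          group
        have hcs' : s * (c⁻¹ * y) = c⁻¹ * y * s := by
          have e1 : s * c⁻¹ = c⁻¹ * s := h.h.S_comm_F hs (inv_mem hc)
          rw [← mul_assoc, e1, mul_assoc, hsy]
          group
        calc a * s * a⁻¹ * s⁻¹ * y = a * s * a⁻¹ * (s⁻¹ * y) := by group
          _ = a * s * (a⁻¹ * y) * s⁻¹ := by rw [hys]; group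
          _ = a * (s * (c⁻¹ * y)) * a⁻¹ * s⁻¹ := by rw [hy2]; group
          _ = a * (c⁻¹ * y) * s * a⁻¹ * s⁻¹ := by rw [hcs']; group
          _ = y * (a * s * a⁻¹ * s⁻¹) := by rw [hay]; group
      rw [mul_assoc, hz1, ← mul_assoc, h1]
      group
  -- the counting map
  let ι : (K ⧸ D.subgroupOf K) × zpowers f → E := fun p =>
    ⟨((p.1.out : K) : G) * s * ((p.1.out : K) : G)⁻¹ * s⁻¹ * (p.2 : G), hmem _ (p.1.out).2 _ p.2.2⟩
  have hinj : Function.Injective ι := by
    rintro ⟨q, z⟩ ⟨q', z'⟩ hqq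
    have h1 : ((q.out : K) : G) * s * ((q.out : K) : G)⁻¹ * s⁻¹ * (z : G) =
        ((q'.out : K) : G) * s * ((q'.out : K) : G)⁻¹ * s⁻¹ * (z' : G) := congrArg Subtype.val hqq
    obtain ⟨a, ha⟩ : ∃ a : K, a = q.out := ⟨_, rfl⟩
    obtain ⟨b, hb⟩ : ∃ b : K, b = q'.out := ⟨_, rfl⟩
    rw [← ha, ← hb] at h1
    have hcK : (b : G)⁻¹ * (a : G) ∈ K := mul_mem (inv_mem b.2) a.2
    have hzK : ∀ {w : G}, w ∈ K → w * ((z' : G) * (z : G)⁻¹) = (z' : G) * (z : G)⁻¹ * w := fun hw =>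
      h.h.comm_F hw (mul_mem z'.2 (inv_mem z.2))
    have h2 : s * ((b : G)⁻¹ * a) * s⁻¹ * ((b : G)⁻¹ * a)⁻¹ ∈ zpowers f := by
      have e1 : (b : G)⁻¹ * a = (s * (b : G)⁻¹ * s⁻¹) * ((z' : G) * (z : G)⁻¹) * (s * a * s⁻¹) := by
        calc (b : G)⁻¹ * a = (b : G)⁻¹ * ((a : G) * s * (a : G)⁻¹ * s⁻¹ * z) * (z : G)⁻¹ * (s * a * s⁻¹) := by group
          _ = (b : G)⁻¹ * ((b : G) * s * (b : G)⁻¹ * s⁻¹ * z') * (z : G)⁻¹ * (s * a * s⁻¹) := by rw [h1]
          _ = _ := by group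
      have e2 : (b : G)⁻¹ * a = ((z' : G) * (z : G)⁻¹) * (s * ((b : G)⁻¹ * a) * s⁻¹) := by
        calc (b : G)⁻¹ * a = (s * (b : G)⁻¹ * s⁻¹) * ((z' : G) * (z : G)⁻¹) * (s * a * s⁻¹) := e1
          _ = ((z' : G) * (z : G)⁻¹) * (s * (b : G)⁻¹ * s⁻¹) * (s * a * s⁻¹) := by
              rw [hzK (h.h.S_norm hs (inv_mem b.2))]
          _ = _ := by group
      have e3 : s * ((b : G)⁻¹ * a) * s⁻¹ * ((b : G)⁻¹ * a)⁻¹ = ((z' : G) * (z : G)⁻¹)⁻¹ := by
        have e4 : s * ((b : G)⁻¹ * a) * s⁻¹ = ((z' : G) * (z : G)⁻¹)⁻¹ * ((b : G)⁻¹ * a) := by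
          rw [eq_inv_mul_iff_mul_eq]
          exact e2.symm
        rw [e4, mul_inv_cancel_right]
      rw [e3]
      exact inv_mem (mul_mem z'.2 (inv_mem z.2))
    have h3 := h.comm_of_mem hs hcK h2
    have h4 : q = q' := by
      rw [← QuotientGroup.out_eq' q, ← QuotientGroup.out_eq' q', ← ha, ← hb, eq_comm, QuotientGroup.eq,
        mem_subgroupOf]
      exact ⟨hcK, mem_centralizer_singleton_iff.2 h3.symm⟩
    have h5 : a = b := by rw [ha, hb, h4]
    have h6 : (z : G) = z' := by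
      rw [h5] at h1
      exact mul_left_cancel h1
    rw [h4, Subtype.ext h6]
  have hcard : Nat.card E ≤ Nat.card ((K ⧸ D.subgroupOf K) × zpowers f) := by
    rw [Nat.card_prod, h.h.card_F]
    have h1 := Subgroup.card_eq_card_quotient_mul_card_subgroup (D.subgroupOf K)
    rw [Nat.card_congr (subgroupOfEquivOfLe hDK).toEquiv, h.h.card] at h1
    have h2 : 5 ^ 5 ≤ Nat.card (K ⧸ D.subgroupOf K) * 25 := by
      rw [h1]
      exact Nat.mul_le_mul_left _ hDc
    omega
  obtain ⟨p, hp⟩ := (hinj.bijective_of_nat_card_le hcard).2 ⟨k, hk, mem_centralizer_singleton_iff.2 hky⟩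
  exact ⟨_, (p.1.out).2, _, p.2.2, (congrArg Subtype.val hp).symm⟩

/-- If `k s` commutes with an element of `K` outside `⟨f⟩`, then `(k s) ^ 5 = 1`. -/
theorem pow_five_of_comm {k s y : G} (hk : k ∈ K) (hs : s ∈ S) (hs5 : s ^ 5 = 1) (hy : y ∈ K) (hyf : y ∉ zpowers f)
    (hc : k * s * y = y * (k * s)) : (k * s) ^ 5 = 1 := by
  by_cases hs1 : s = 1
  · rw [hs1, mul_one]
    exact h.pow_five k hk
  have : Fact (Nat.Prime 5) := ⟨Nat.prime_five⟩
  have ho : orderOf s = 5 := orderOf_eq_prime hs5 hs1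
  have hsy := h.comm_of_comm hk hs hy hc
  have hky : k * y = y * k := by
    apply mul_right_cancel (b := s)
    rw [mul_assoc k y s, ← hsy, ← mul_assoc, hc, mul_assoc]
  obtain ⟨a, ha, z, hz, rfl⟩ := exists_comm h hs ho hy hyf hsy hk hky
  have hzs : s * z = z * s := h.h.S_comm_F hs hz
  have hza : a * z = z * a := h.h.comm_F ha hz
  have e1 : a * s * a⁻¹ * s⁻¹ * z * s = a * s * a⁻¹ * z := by
    rw [mul_assoc _ z s, ← hzs]
    group
  have hcomm : Commute (a * s * a⁻¹) z := by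
    have c1 : Commute a z := hza
    have c2 : Commute s z := hzs
    exact (c1.mul_left c2).mul_left c1.inv_left
  have hz5 : z ^ 5 = 1 := h.pow_five z (h.h.F_le hz)
  rw [e1, hcomm.mul_pow, hz5, mul_one, conj_pow, hs5, mul_one, mul_inv_cancel]

/-- `C_K(x) ≤ ⟨f⟩` for `x` of order 25. -/
theorem mem_of_comm25 {x y : G} (hxf : x * f = f * x) (hx : orderOf x = 25) (hy : y ∈ K) (hc : x * y = y * x) :
    y ∈ zpowers f := by
  by_contra hyf
  obtain ⟨k, hk, s, hs, rfl, hs5⟩ := h.exists_fac hxf (n := 2) (by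
    rw [show (5 : ℕ) ^ 2 = 25 by norm_num, ← hx, pow_orderOf_eq_one])
  have h1 := pow_five_of_comm h hk hs hs5 hy hyf hc
  have h2 := orderOf_dvd_of_pow_eq_one h1
  rw [hx] at h2
  exact absurd h2 (by norm_num)

/-- `f ∈ ⟨x⟩`. -/
theorem f_mem {x : G} (hxf : x * f = f * x) (hx : orderOf x = 25) : f ∈ zpowers x := by
  obtain ⟨k, hk, s, hs, he, hs5⟩ := h.exists_fac hxf (n := 2) (by
    rw [show (5 : ℕ) ^ 2 = 25 by norm_num, ← hx, pow_orderOf_eq_one])
  obtain ⟨k', hk', he'⟩ := h.h.mem_K_pow hk hs 5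
  have h1 : x ^ 5 ∈ K := by
    rw [he, he', hs5, mul_one]
    exact hk'
  have h2 : x ^ 5 ∈ zpowers f := mem_of_comm25 h hxf hx h1 (by rw [← pow_succ', ← pow_succ])
  have h3 : x ^ 5 ≠ 1 := by
    intro h3
    have h4 := orderOf_dvd_of_pow_eq_one h3
    rw [hx] at h4
    exact absurd h4 (by norm_num)
  have : Fact (Nat.Prime 5) := ⟨Nat.prime_five⟩
  have h5 : f ∈ zpowers (x ^ 5) := by
    have h6 := zpowers_eq_top_of_prime_card (G := zpowers f) (p := 5) (by rw [h.h.card_F])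
      (g := ⟨x ^ 5, h2⟩) (fun h7 => h3 (congrArg Subtype.val h7))
    have h7 : (⟨f, mem_zpowers f⟩ : zpowers f) ∈ zpowers (⟨x ^ 5, h2⟩ : zpowers f) := by rw [h6]; exact mem_top _
    obtain ⟨n, hn⟩ := mem_zpowers_iff.1 h7
    exact mem_zpowers_iff.2 ⟨n, congrArg Subtype.val hn⟩
  exact (zpowers_le.2 (pow_mem (mem_zpowers x) 5)) h5

theorem cent_le {x : G} (hxf : x * f = f * x) (hx : orderOf x = 25) :
    centralizer ({x} : Set G) ≤ centralizer ({f} : Set G) := by
  intro y hy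
  obtain ⟨n, hn⟩ := mem_zpowers_iff.1 (f_mem h hxf hx)
  rw [mem_centralizer_singleton_iff] at hy ⊢
  rw [← hn]
  exact ((show Commute y x from hy).zpow_right n).eq

/-- no element of order 3 commutes with an element of order 25 -/
theorem no_three {x y : G} (hxf : x * f = f * x) (hx : orderOf x = 25) (hy : orderOf y = 3) (hc : y * x = x * y) :
    False := by
  have hyf : y * f = f * y :=
    mem_centralizer_singleton_iff.1 (cent_le h hxf hx (mem_centralizer_singleton_iff.2 hc))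
  obtain ⟨k, hk, s, hs, rfl, hs5⟩ := h.exists_fac hxf (n := 2) (by
    rw [show (5 : ℕ) ^ 2 = 25 by norm_num, ← hx, pow_orderOf_eq_one])
  obtain ⟨k', hk', r, hr, rfl⟩ := h.h.fac y hyf
  obtain ⟨k'', hk'', he⟩ := h.h.mem_K_pow hk' hr 3
  rw [← hy, pow_orderOf_eq_one, hy] at he
  have hr3 : r ^ 3 = 1 := by
    refine h.h.eq_one_of_mem ?_ (pow_mem hr 3)
    have : r ^ 3 = k''⁻¹ := (inv_eq_of_mul_eq_one_right he.symm).symm
    rw [this]
    exact inv_mem hk''
  have hr1 : r ≠ 1 := by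
    rintro rfl
    rw [mul_one] at hy
    have h1 := orderOf_dvd_of_pow_eq_one (h.pow_five k' hk')
    rw [hy] at h1
    exact absurd h1 (by norm_num)
  have hsr : s * r = r * s := by
    have h1 : s * r * (r * s)⁻¹ = 1 := by
      refine h.h.eq_one_of_mem ?_ (mul_mem (mul_mem hs hr) (inv_mem (mul_mem hr hs)))
      have e1 : k' * r * (k * s) = k * s * (k' * r) := hc
      have e2 : s * r * (r * s)⁻¹ = (s * k' * s⁻¹)⁻¹ * k⁻¹ * k' * (r * k * r⁻¹) := by
        have e3 : k * (s * k' * s⁻¹) * (s * r) = k' * (r * k * r⁻¹) * (r * s) := by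
          calc k * (s * k' * s⁻¹) * (s * r) = k * s * (k' * r) := by group
            _ = k' * r * (k * s) := e1.symm
            _ = k' * (r * k * r⁻¹) * (r * s) := by group
        have e4 : s * r = (k * (s * k' * s⁻¹))⁻¹ * (k' * (r * k * r⁻¹) * (r * s)) := by
          rw [← e3]; group
        rw [e4]
        group
      rw [e2]
      exact mul_mem (mul_mem (mul_mem (inv_mem (h.h.S_norm hs hk')) (inv_mem hk)) hk') (h.h.S_norm hr hk)
    rwa [mul_inv_eq_one] at h1
  have h1 := h.five_three s hs r hr hs5 hr3 hr1 hsr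
  rw [h1, mul_one] at hx
  have h2 := orderOf_dvd_of_pow_eq_one (h.pow_five k hk)
  rw [hx] at h2
  exact absurd h2 (by norm_num)

/-- an involution of `C(f)` is conjugate to `t` under `K` -/
theorem exists_conj_t {y : G} (hyf : y * f = f * y) (hy : orderOf y = 2) : ∃ n ∈ K, y = n * t * n⁻¹ := by
  obtain ⟨k', hk', r, hr, rfl⟩ := h.h.fac y hyf
  obtain ⟨k'', hk'', he⟩ := h.h.mem_K_pow hk' hr 2
  have hy2 : (k' * r) ^ 2 = 1 := by rw [← hy, pow_orderOf_eq_one]
  rw [hy2] at he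
  have hr2 : r ^ 2 = 1 := by
    refine h.h.eq_one_of_mem ?_ (pow_mem hr 2)
    have : r ^ 2 = k''⁻¹ := (inv_eq_of_mul_eq_one_right he.symm).symm
    rw [this]
    exact inv_mem hk''
  have hrt : r = t := by
    rcases h.uinv r hr (by rw [← pow_two]; exact hr2) with h1 | h1
    · exfalso
      rw [h1, mul_one] at hy
      have h2 := orderOf_dvd_of_pow_eq_one (h.pow_five k' hk')
      rw [hy] at h2
      exact absurd h2 (by norm_num)
    · exact h1
  subst hrt
  obtain ⟨m, hm, z, hz, hinv, rfl⟩ := h.exists_inverted hk'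
  have htz : r * z = z * r := h.h.S_comm_F hr hz
  have hmz : m * z = z * m := h.h.comm_F hm hz
  have hrr : r * r = 1 := h.h.tt
  have hri : r⁻¹ = r := h.h.tinv
  have hz2 : z ^ 2 = 1 := by
    have e1 : (m * z * r) ^ 2 = z ^ 2 := by
      rw [hri] at hinv
      calc (m * z * r) ^ 2 = m * z * r * (m * z * r) := pow_two _
        _ = z * (m * (r * m * r) * z) := by
            have e2 : m * z * r * (m * z * r) = (m * z) * r * m * (z * r) := by group
            rw [e2, ← htz, hmz]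
            group
        _ = z ^ 2 := by rw [hinv, mul_inv_cancel, one_mul, pow_two]
    rw [← e1]
    exact hy2
  have hz1 : z = 1 := by
    have h5 := h.pow_five z (h.h.F_le hz)
    calc z = z ^ 5 * (z ^ 2)⁻¹ * (z ^ 2)⁻¹ := by group
      _ = 1 := by rw [h5, hz2]; simp
  rw [hz1, mul_one]
  have hm5 := h.pow_five m hm
  refine ⟨m ^ 3, pow_mem hm 3, ?_⟩
  have e3 : r * (m ^ 3)⁻¹ = m ^ 3 * r := by
    have e4 : r * (m ^ 3)⁻¹ * r⁻¹ = ((r * m * r⁻¹)⁻¹) ^ 3 := by
      rw [← inv_pow, conj_inv, conj_pow]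
    rw [hinv, inv_inv] at e4
    rw [mul_inv_eq_iff_eq_mul] at e4
    exact e4
  rw [mul_assoc, e3, ← mul_assoc, ← pow_add]
  have e5 : m ^ (3 + 3) = m := by rw [show 3 + 3 = 5 + 1 from rfl, pow_succ, hm5, one_mul]
  rw [e5]

/-- no involution commutes with an element of order 25 -/
theorem no_two {x y : G} (hxf : x * f = f * x) (hx : orderOf x = 25) (hy : orderOf y = 2) (hc : y * x = x * y) :
    False := by
  have hyf : y * f = f * y :=
    mem_centralizer_singleton_iff.1 (cent_le h hxf hx (mem_centralizer_singleton_iff.2 hc))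
  obtain ⟨n, hn, rfl⟩ := exists_conj_t h hyf hy
  obtain ⟨k, hk, s, hs, rfl, hs5⟩ := h.exists_fac hxf (n := 2) (by
    rw [show (5 : ℕ) ^ 2 = 25 by norm_num, ← hx, pow_orderOf_eq_one])
  have hst : s * t = t * s := h.h.six.comm s hs
  set k₁ := n⁻¹ * k * (s * n * s⁻¹) with hk₁
  have hk₁K : k₁ ∈ K := mul_mem (mul_mem (inv_mem hn) hk) (h.h.S_norm hs hn)
  have e1 : n⁻¹ * (k * s) * n = k₁ * s := by rw [hk₁]; group
  have e2 : t * (k₁ * s) = k₁ * s * t := by
    rw [← e1]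
    calc t * (n⁻¹ * (k * s) * n) = n⁻¹ * ((n * t * n⁻¹) * (k * s)) * n := by group
      _ = n⁻¹ * ((k * s) * (n * t * n⁻¹)) * n := by rw [hc]
      _ = _ := by group
  have e3 : k₁ * t = t * k₁ := by
    apply mul_right_cancel (b := s)
    calc k₁ * t * s = k₁ * (t * s) := mul_assoc _ _ _
      _ = k₁ * (s * t) := by rw [hst]
      _ = k₁ * s * t := (mul_assoc _ _ _).symm
      _ = t * (k₁ * s) := e2.symm
      _ = t * k₁ * s := (mul_assoc _ _ _).symm
  have e4 : k₁ ∈ zpowers f := h.h.ct k₁ hk₁K e3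
  have e5 : (k₁ * s) ^ 5 = 1 := by
    rw [(show Commute k₁ s from (h.h.S_comm_F hs e4).symm).mul_pow, h.pow_five k₁ hk₁K, hs5, one_mul]
  have e6 : (k * s) ^ 5 = 1 := by
    have e7 : k * s = n * (k₁ * s) * n⁻¹ := by rw [← e1]; group
    rw [e7, conj_pow, e5]
    group
  have e8 := orderOf_dvd_of_pow_eq_one e6
  rw [hx] at e8
  exact absurd e8 (by norm_num)

/-- **the centralizer of an element of order 25** -/
theorem card_cent25 {x : G} (hxf : x * f = f * x) (hx : orderOf x = 25) :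
    Nat.card (centralizer ({x} : Set G)) ≤ 25 := by
  have : Fact (Nat.Prime 5) := ⟨Nat.prime_five⟩
  have hle := cent_le h hxf hx
  have hp : IsPGroup 5 ↥(centralizer ({x} : Set G)) := by
    rw [IsPGroup.iff_card]
    have hd : Nat.card (centralizer ({x} : Set G)) ∣ 2 ^ 4 * 3 ^ 2 * 5 ^ 6 := by
      rw [show 2 ^ 4 * 3 ^ 2 * 5 ^ 6 = 2250000 by norm_num, ← h.card_cent]
      exact Subgroup.card_dvd_of_le hle
    have h2 : ¬ 2 ∣ Nat.card (centralizer ({x} : Set G)) := by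
      intro h2
      obtain ⟨y, hy⟩ := exists_prime_orderOf_dvd_card' (G := centralizer ({x} : Set G)) 2 h2
      exact no_two h hxf hx (y := (y : G)) (by rw [Subgroup.orderOf_coe, hy])
        (mem_centralizer_singleton_iff.1 y.2)
    have h3 : ¬ 3 ∣ Nat.card (centralizer ({x} : Set G)) := by
      intro h3
      have : Fact (Nat.Prime 3) := ⟨Nat.prime_three⟩
      obtain ⟨y, hy⟩ := exists_prime_orderOf_dvd_card' (G := centralizer ({x} : Set G)) 3 h3
      exact no_three h hxf hx (y := (y : G)) (by rw [Subgroup.orderOf_coe, hy])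
        (mem_centralizer_singleton_iff.1 y.2)
    have c2 : (Nat.card (centralizer ({x} : Set G))).Coprime (2 ^ 4 * 3 ^ 2) := by
      refine Nat.Coprime.mul_right ?_ ?_
      · exact Nat.Coprime.pow_right 4 ((Nat.Prime.coprime_iff_not_dvd Nat.prime_two).2 h2).symm
      · exact Nat.Coprime.pow_right 2 ((Nat.Prime.coprime_iff_not_dvd Nat.prime_three).2 h3).symm
    have h4 := c2.dvd_of_dvd_mul_left hd
    obtain ⟨m, -, hm⟩ := (Nat.dvd_prime_pow Nat.prime_five).1 h4
    exact ⟨m, hm⟩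
  have h1 := h.card_le_inf hp hle
  have h2 : centralizer ({x} : Set G) ⊓ K ≤ zpowers f := fun y hy =>
    mem_of_comm25 h hxf hx hy.2 (mem_centralizer_singleton_iff.1 hy.1).symm
  have h3 : Nat.card (centralizer ({x} : Set G) ⊓ K : Subgroup G) ≤ Nat.card (zpowers f) :=
    Nat.card_mono (Set.toFinite _) h2
  rw [h.h.card_F] at h3
  omega

end fv

end Cfsg.Agent.H868.Dl.LyFive
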