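import Cfsg.Agent.H620.ONVan
import Cfsg.Agent.H474.ONC.Loc
import Cfsg.Agent.CpAut.SporThree.ONInv

/-!
# The O'Nan group: the centralizer of an element of order 16 (S4769, helper868)

`card16` : `|C(x)| ≤ 16` for `x = E 384` of order 16: no element of order 3, 5, 7 commutes with `x`, and the
centralizers of the elements of order 16 in the Sylow 2-subgroup `T` have order 16.
-/

set_option autoImplicit false
set_option maxRecDepth 100000

namespace Cfsg.Agent.H868.Dl.ONCls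

open Cfsg Subgroup
open Cfsg.Spor (ON)
open Cfsg.Agent.SporadicB.ON45Word (on)
open Cfsg.Agent.KFacts.ON.Words (hs vv v)
open Cfsg.Agent.KFacts.ON.Struct
open Cfsg.Agent.UGT.C.BalONTab Cfsg.Agent.UGT.C.BalONInv
open Cfsg.Agent.ONType.TupK (K0)
open Cfsg.Agent.H620.ONStruct Cfsg.Agent.H620.ONSixteen

/-- the codes commuting with the representatives -/
theorem cent_cnt : ∀ r ∈ reps16, ((Finset.range 512).filter fun c => mu c r = mu r c).card ≤ 16 := by
  decide +kernel

/-- subgroups of `T` commuting with a representative -/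
theorem card_rep {r : ℕ} (hr : r ∈ reps16) {Q : Subgroup ON} (hQ : Q ≤ T) (hc : ∀ q ∈ Q, q * E r = E r * q) :
    Nat.card Q ≤ 16 := by
  refine le_trans ?_ (cent_cnt r hr)
  have h1 : ∀ q : Q, ∃ c < 512, (q : ON) = E c := fun q => exists_E hs (hQ q.2)
  choose f hf hf' using h1
  have hmem : ∀ q : Q, f q ∈ (Finset.range 512).filter fun c => mu c r = mu r c := by
    intro q
    rw [Finset.mem_filter, Finset.mem_range]
    refine ⟨hf q, ?_⟩
    have h2 := hc q q.2
    rw [hf' q, E_mul hs (hf q), E_mul hs (reps16_lt r hr)] at h2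
    exact E_inj hs (mu_lt hs (hf q) r) (mu_lt hs (reps16_lt r hr) _) h2
  have h3 : Nat.card {i // i ∈ (Finset.range 512).filter fun c => mu c r = mu r c} =
      ((Finset.range 512).filter fun c => mu c r = mu r c).card := by
    rw [Nat.card_eq_fintype_card, Fintype.card_coe]
  rw [← h3]
  refine Nat.card_le_card_of_injective
    (fun q : Q => (⟨f q, hmem q⟩ : {i // i ∈ (Finset.range 512).filter fun c => mu c r = mu r c})) ?_
  intro q q' h
  have h4 : f q = f q' := congrArg Subtype.val h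
  apply Subtype.ext
  rw [hf' q, hf' q', h4]

/-- the elements of order 16 of `T` -/
theorem exists_rep {x : ON} (hx : x ∈ T) (h8 : x ^ 8 ≠ 1) : ∃ u ∈ T, ∃ r ∈ reps16, u * x * u⁻¹ = E r := by
  obtain ⟨c, hc, rfl⟩ := exists_E hs hx
  have h1 : mu (mu (mu c c) (mu c c)) (mu (mu c c) (mu c c)) ≠ 0 := by
    intro h2
    apply h8
    rw [E_eight hc, h2, E_zero]
  obtain ⟨e, he, hec⟩ := List.any_eq_true.1 ((tl_all c hc).resolve_left h1)
  have hec : e.1 = c := Nat.eq_of_beq_eq_true hec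
  have hok := List.all_eq_true.1 tl_ok e he
  rw [Bool.and_eq_true, Bool.and_eq_true] at hok
  obtain ⟨c1, c2, c3⟩ := hok
  have c1 := Nat.eq_of_beq_eq_true c1
  have c2 : e.2.1 < 512 := Nat.blt_eq.mp c2
  obtain ⟨r, hr, hre⟩ := List.any_eq_true.1 c3
  have hre : r = e.2.2 := Nat.eq_of_beq_eq_true hre
  rw [hec, ← hre] at c1
  refine ⟨E e.2.1, E_mem _, r, hr, ?_⟩
  rw [mul_inv_eq_iff_eq_mul, E_mul hs c2, E_mul hs (reps16_lt r hr), c1]

/-- 2-subgroups commuting with an element of order 16 -/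
theorem card_two {x : ON} (hx : orderOf x = 16) {Q : Subgroup ON} (hQ : IsPGroup 2 Q) (hxQ : x ∈ Q)
    (hc : ∀ q ∈ Q, q * x = x * q) : Nat.card Q ≤ 16 := by
  obtain ⟨h, hh⟩ := exists_conj_T hQ
  have h8 : (h * x * h⁻¹) ^ 8 ≠ 1 := by
    rw [conj_pow]
    intro h1
    have h2 : x ^ 8 = 1 := by
      calc x ^ 8 = h⁻¹ * (h * x ^ 8 * h⁻¹) * h := by group
        _ = 1 := by rw [h1]; group
    have h3 := orderOf_dvd_of_pow_eq_one h2
    rw [hx] at h3
    norm_num at h3
  obtain ⟨u, hu, r, hr, hur⟩ := exists_rep (hh x hxQ) h8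
  have h4 := card_rep hr (Q := Q.map (MulAut.conj (u * h)).toMonoidHom) (by
    rintro _ ⟨q, hq, rfl⟩
    have h5 : (MulAut.conj (u * h)).toMonoidHom q = u * (h * q * h⁻¹) * u⁻¹ := by
      show u * h * q * (u * h)⁻¹ = _
      group
    rw [h5]
    exact T.mul_mem (T.mul_mem hu (hh q hq)) (T.inv_mem hu)) (by
    rintro _ ⟨q, hq, rfl⟩
    rw [← hur]
    show u * h * q * (u * h)⁻¹ * (u * (h * x * h⁻¹) * u⁻¹) = u * (h * x * h⁻¹) * u⁻¹ * (u * h * q * (u * h)⁻¹)
    calc u * h * q * (u * h)⁻¹ * (u * (h * x * h⁻¹) * u⁻¹) = u * h * (q * x) * h⁻¹ * u⁻¹ := by group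
      _ = u * h * (x * q) * h⁻¹ * u⁻¹ := by rw [hc q hq]
      _ = u * (h * x * h⁻¹) * u⁻¹ * (u * h * q * (u * h)⁻¹) := by group)
  rwa [card_map_of_injective (MulAut.conj (u * h)).injective] at h4

theorem x8 : E 384 ^ 8 = on .f := by rw [E_eight (by norm_num), m16, E_one]

/-- no element of odd prime order commutes with `x` -/
theorem no_odd {y : ON} {q : ℕ} (hq : q.Prime) (hq2 : q ≠ 2) (hy : orderOf y = q) (hc : y * E 384 = E 384 * y) :
    False := by
  have hfin := finite_ON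
  have hyf : y * on .f = on .f * y := by
    rw [← x8]
    exact ((show Commute y (E 384) from hc).pow_right 8).eq
  have hyK : y ∈ K0 := mem_K0.2 hyf
  have hy1 : y ^ q = 1 := by rw [← hy, pow_orderOf_eq_one]
  have hyJ : y ∈ J := Cfsg.Agent.H474.ONC.mem_J_of_odd hyK (hq.odd_of_ne_two hq2) hy1
  have hyne : y ≠ 1 := by
    intro h
    rw [h, orderOf_one] at hy
    exact hq.one_lt.ne hy
  have hxf : E 384 ∈ K0 := mem_K0.2 (by
    rw [← x8]
    exact ((Commute.refl (E 384)).pow_right 8).eq)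
  have hx2 : E 384 * E 384 ∈ J := @Subgroup.mul_self_mem_of_index_two _ _ _ index_J ⟨E 384, hxf⟩
  have hd : q ∣ 161280 := by
    rw [← Cfsg.Agent.KFacts.ON.Cent.card_K0, ← hy]
    have h1 := orderOf_dvd_natCard (⟨y, hyK⟩ : K0)
    rwa [Subgroup.orderOf_mk] at h1
  have hq' : q = 3 ∨ q = 5 ∨ q = 7 := by
    have h2 : q ∣ 2 ^ 9 * (3 ^ 2 * (5 * 7)) := by
      norm_num
      exact hd
    rcases hq.dvd_mul.1 h2 with h2 | h2
    · exact absurd ((Nat.prime_dvd_prime_iff_eq hq Nat.prime_two).1 (hq.dvd_of_dvd_pow h2)) hq2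
    rcases hq.dvd_mul.1 h2 with h2 | h2
    · exact Or.inl ((Nat.prime_dvd_prime_iff_eq hq Nat.prime_three).1 (hq.dvd_of_dvd_pow h2))
    rcases hq.dvd_mul.1 h2 with h2 | h2
    · exact Or.inr (Or.inl ((Nat.prime_dvd_prime_iff_eq hq (by norm_num)).1 h2))
    · exact Or.inr (Or.inr ((Nat.prime_dvd_prime_iff_eq hq (by norm_num)).1 h2))
  have hloc : ∀ {p : ℕ}, Cfsg.Agent.H474.ONC.Loc p y v → (4 * p) % 16 ≠ 0 → False := by
    intro p L hp
    obtain ⟨i, j, hij⟩ := L.cent (E 384) hc.symm (by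
      rw [pow_two, vv]
      exact mem_K0.1 hxf)
    have hcom : Commute (y ^ i) (v ^ j) := (show Commute y v from L.comm.symm).pow_pow i j
    have h1 : E 384 ^ (4 * p) = 1 := by
      rw [hij, hcom.mul_pow, ← pow_mul, ← pow_mul]
      have e1 : y ^ (i * (4 * p)) = 1 := by
        rw [show i * (4 * p) = p * (4 * i) by ring, pow_mul, ← L.ox, pow_orderOf_eq_one, one_pow]
      have e2 : v ^ (j * (4 * p)) = 1 := by
        rw [show j * (4 * p) = 4 * (j * p) by ring, pow_mul, ← L.ov, pow_orderOf_eq_one, one_pow]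
      rw [e1, e2, one_mul]
    have h2 := orderOf_dvd_of_pow_eq_one h1
    rw [orderOf_x16] at h2
    exact hp (Nat.mod_eq_zero_of_dvd h2)
  rcases hq' with rfl | rfl | rfl
  · -- order 3
    have ov : orderOf v = 4 := Cfsg.Agent.H474.ONC.order_v
    have hcx : ∀ k : ℕ, y * E 384 ^ k = E 384 ^ k * y := fun k => ((show Commute y (E 384) from hc).pow_right k).eq
    have o4 : orderOf (E 384 ^ 4) = 4 := by
      rw [orderOf_pow_of_dvd (by norm_num) (by rw [orderOf_x16]; norm_num), orderOf_x16]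
    have o2 : orderOf (E 384 ^ 2) = 8 := by
      rw [orderOf_pow_of_dvd (by norm_num) (by rw [orderOf_x16]; norm_num), orderOf_x16]
    have j2 : E 384 ^ 2 ∈ J := by rw [pow_two]; exact hx2
    have j4 : E 384 ^ 4 ∈ J := by
      rw [show (4 : ℕ) = 2 * 2 by norm_num, pow_mul]
      exact J.pow_mem j2 2
    by_cases hv : E 384 ^ 4 ∈ zpowers v
    · refine hyne (Cfsg.Agent.CpAut.SporThree.ONInv.no_three hyJ hy1 j2 (fun h => ?_) ?_ (hcx 2))
      · have h1 := orderOf_dvd_natCard (⟨E 384 ^ 2, h⟩ : zpowers v)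
        rw [Subgroup.orderOf_mk, o2, Nat.card_zpowers, ov] at h1
        norm_num at h1
      · rw [← pow_two, ← pow_mul]
        exact hv
    · refine hyne (Cfsg.Agent.CpAut.SporThree.ONInv.no_three hyJ hy1 j4 hv ?_ (hcx 4))
      rw [← pow_two, ← pow_mul, show 4 * 2 = 8 by norm_num, x8, ← vv]
      exact (zpowers v).mul_mem (mem_zpowers v) (mem_zpowers v)
  · exact hloc (Cfsg.Agent.H474.ONC.loc_five hy hyJ) (by norm_num)
  · exact hloc (Cfsg.Agent.H474.ONC.loc_seven hy hyJ) (by norm_num)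

/-- **`|C(x)| ≤ 16`** -/
theorem card16 : Nat.card ↥(centralizer ({E 384} : Set ON)) ≤ 16 := by
  have hfin := finite_ON
  have h2 : Fact (Nat.Prime 2) := ⟨Nat.prime_two⟩
  refine card_two orderOf_x16 ?_ (mem_centralizer_singleton_iff.2 rfl) (fun q hq => mem_centralizer_singleton_iff.1 hq)
  rw [IsPGroup.iff_card]
  have h0 : Nat.card ↥(centralizer ({E 384} : Set ON)) ≠ 0 := Nat.card_pos.ne'
  refine ⟨_, Nat.eq_prime_pow_of_unique_prime_dvd h0 fun {q} hq hd => ?_⟩
  by_contra hne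
  have : Fact q.Prime := ⟨hq⟩
  obtain ⟨y, hy⟩ := exists_prime_orderOf_dvd_card' q hd
  exact no_odd hq hne (y := y) (by rw [← hy, Subgroup.orderOf_coe]) (mem_centralizer_singleton_iff.1 y.2)

end Cfsg.Agent.H868.Dl.ONCls
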